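import Groth.Agent.DRingTorAmp.Criterion
import Mathlib.CategoryTheory.Monoidal.Tor
import Mathlib.CategoryTheory.Abelian.Projective.Extend
import Mathlib.Algebra.Homology.Embedding.ExtendHomology

/-!
# Tor from a flat resolution
-/

universe u

open CategoryTheory Limits

namespace Groth.Agent.TorFlatRes

attribute [local instance] HasDerivedCategory.standard

variable {R : Type u} [CommRing R] (G : ModuleCat.{u} R ⥤ ModuleCat.{u} R) [G.Additive]

noncomputable def xIso (C : ChainComplex (ModuleCat.{u} R) ℕ) : ∀ o : Option ℕ,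
    G.obj (HomologicalComplex.extend.X C o) ≅ HomologicalComplex.extend.X ((G.mapHomologicalComplex (ComplexShape.down ℕ)).obj C) o
  | some _ => Iso.refl _
  | none => (G.map_isZero (HomologicalComplex.extend.isZero_X C rfl)).iso
      (HomologicalComplex.extend.isZero_X _ rfl)

theorem xIso_comm (C : ChainComplex (ModuleCat.{u} R) ℕ) : ∀ o o' : Option ℕ,
    (xIso G C o).hom ≫ HomologicalComplex.extend.d ((G.mapHomologicalComplex (ComplexShape.down ℕ)).obj C) o o' =
      G.map (HomologicalComplex.extend.d C o o') ≫ (xIso G C o').hom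
  | some _, some _ => (Category.id_comp _).trans (Category.comp_id _).symm
  | none, _ => (G.map_isZero (HomologicalComplex.extend.isZero_X C rfl)).eq_of_src _ _
  | some _, none => (HomologicalComplex.extend.isZero_X _ rfl).eq_of_tgt _ _

noncomputable def mapExtendIso (C : ChainComplex (ModuleCat.{u} R) ℕ) :
    (G.mapHomologicalComplex (ComplexShape.up ℤ)).obj (C.extend ComplexShape.embeddingDownNat) ≅
      ((G.mapHomologicalComplex (ComplexShape.down ℕ)).obj C).extend ComplexShape.embeddingDownNat :=
  HomologicalComplex.Hom.isoOfComponents (fun _ => xIso G C _) (fun _ _ _ => xIso_comm G C _ _)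

noncomputable def homologyIso (C : ChainComplex (ModuleCat.{u} R) ℕ) (i : ℕ) :
    ((G.mapHomologicalComplex (ComplexShape.up ℤ)).obj (C.extend ComplexShape.embeddingDownNat)).homology (-(i : ℤ)) ≅
      ((G.mapHomologicalComplex (ComplexShape.down ℕ)).obj C).homology i :=
  (HomologicalComplex.homologyFunctor _ _ _).mapIso (mapExtendIso G C) ≪≫
    HomologicalComplex.extendHomologyIso _ _ (by simp)

theorem nonempty_iso (M N : ModuleCat.{u} R) (F : ChainComplex (ModuleCat.{u} R) ℕ)
    (hF : ∀ i : ℕ, Module.Flat R (F.X i)) (φ : F ⟶ (ChainComplex.single₀ (ModuleCat.{u} R)).obj M) [QuasiIso φ]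
    (i : ℕ) :
    Nonempty ((((MonoidalCategory.tensorRight N).mapHomologicalComplex (ComplexShape.down ℕ)).obj F).homology i ≅
      ((MonoidalCategory.tensorRight N).leftDerived i).obj M) := by
  let P := projectiveResolution M
  let e := ComplexShape.embeddingDownNat
  let G := MonoidalCategory.tensorRight N
  haveI : P.cochainComplex.IsKProjective := CochainComplex.isKProjective_of_projective P.cochainComplex 0
  let a : DRing.toD P.cochainComplex ≅ DRing.toD (F.extend e) :=
    (@asIso _ _ _ _ (DerivedCategory.Q.map (HomologicalComplex.extendMap P.π e))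
      ((DerivedCategory.isIso_Q_map_iff_quasiIso _ _).2 ((HomologicalComplex.quasiIso_extendMap_iff P.π e).2 inferInstance))) ≪≫
    (@asIso _ _ _ _ (DerivedCategory.Q.map (HomologicalComplex.extendMap φ e))
      ((DerivedCategory.isIso_Q_map_iff_quasiIso _ _).2 ((HomologicalComplex.quasiIso_extendMap_iff φ e).2 inferInstance))).symm
  obtain ⟨g, hg⟩ := (CochainComplex.IsKProjective.Qh_map_bijective P.cochainComplex
      ((HomotopyCategory.quotient _ _).obj (F.extend e))).2
    ((DerivedCategory.quotientCompQhIso _).hom.app _ ≫ a.hom ≫ (DerivedCategory.quotientCompQhIso _).inv.app _)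
  obtain ⟨ψ, rfl⟩ := (HomotopyCategory.quotient _ _).map_surjective g
  haveI : QuasiIso ψ := by
    refine (DerivedCategory.isIso_Q_map_iff_quasiIso _ ψ).1 ?_
    have h := DerivedCategory.quotientCompQhIso_hom_naturality ψ
    rw [hg] at h
    have : DerivedCategory.Q.map ψ = a.hom := by
      rw [← cancel_epi ((DerivedCategory.quotientCompQhIso (ModuleCat.{u} R)).hom.app P.cochainComplex)]
      simpa using h.symm
    rw [this]
    infer_instance
  have hFl : DRing.TermwiseFlat (F.extend e) := fun n => by
    by_cases hn : n ≤ 0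
    · obtain ⟨k, rfl⟩ := Int.exists_eq_neg_ofNat hn
      haveI := hF k
      exact Module.Flat.of_linearEquiv (F.extendXIso e (show e.f k = -(k : ℤ) by simp [e])).toLinearEquiv
    · haveI : Subsingleton ((F.extend e).X n) := ModuleCat.subsingleton_of_isZero
        (F.isZero_extend_X e n (fun k hk => hn (by simp [e] at hk; omega)))
      infer_instance
  have hq := DRingTorAmp.quasiIso_map G (fun _ hc hac => DRingTorAmp.acyclic_tensorCx hc hac N)
    (DRingTorAmp.isKFl_of_isKProjective P.cochainComplex)
    (DRingTorAmp.isKFl_of_flat (b := 0) (fun n hn => F.isZero_extend_X e n (fun k hk => by simp [e] at hk; omega)) hFl) ψ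
  exact ⟨(homologyIso G F i).symm ≪≫
    (@asIso _ _ _ _ (HomologicalComplex.homologyMap ((G.mapHomologicalComplex (ComplexShape.up ℤ)).map ψ) (-(i : ℤ)))
      ((quasiIsoAt_iff_isIso_homologyMap _ _).1 (hq.quasiIsoAt _))).symm ≪≫
    homologyIso G P.complex i ≪≫ (P.isoLeftDerivedObj G i).symm⟩

end Groth.Agent.TorFlatRes
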